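import Cfsg.Agent.Lib.AC.B5

/-!
# S2204, step F2: the normaliser of `QJ`
-/

set_option autoImplicit false
set_option linter.unusedSectionVars false

namespace Cfsg.Agent.AC

open Subgroup Cfsg.Agent.R3 Cfsg.Agent.EPC Cfsg.Agent.EPO

universe u

variable {G : Type u} [Group G] [Finite G]

/-- generated by the members containing `x` -/
def QJ (U : Subgroup G) (x : G) : Subgroup G := closure {e | ∃ E, MaxEA 2 U E ∧ x ∈ E ∧ e ∈ E}

omit [Finite G] in
theorem le_QJ {U E : Subgroup G} {x : G} (h : MaxEA 2 U E) (hx : x ∈ E) : E ≤ QJ U x :=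
  fun _ he => Subgroup.subset_closure ⟨E, h, hx, he⟩

omit [Finite G] in
theorem QJ_le {U K : Subgroup G} {x : G} (h : ∀ E, MaxEA 2 U E → x ∈ E → E ≤ K) : QJ U x ≤ K :=
  (closure_le _).2 (by rintro e ⟨E, h1, h2, h3⟩; exact h E h1 h2 h3)

omit [Finite G] in
theorem le_thJ' {U E : Subgroup G} (h : MaxEA 2 U E) : E ≤ thJ 2 U :=
  fun _ he => Subgroup.subset_closure ⟨E, h, he⟩

omit [Finite G] in
theorem thJ_le' {U K : Subgroup G} (h : ∀ E, MaxEA 2 U E → E ≤ K) : thJ 2 U ≤ K :=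
  (closure_le _).2 (by rintro e ⟨E, h1, h2⟩; exact h E h1 h2)

omit [Finite G] in
theorem QJ_le_thJ (U : Subgroup G) (x : G) : QJ U x ≤ thJ 2 U := QJ_le fun _ h _ => le_thJ' h

theorem nm_QJ {U : Subgroup G} {x g : G} (h : ∀ E, MaxEA 2 U E → x ∈ E → cj g E ≤ QJ U x) :
    g ∈ normalizer ((QJ U x : Subgroup G) : Set G) := mem_nm_of_cj_le (map_le_iff_le_comap.2
  (QJ_le fun E h1 h2 => map_le_iff_le_comap.1 (h E h1 h2)))

theorem maxEA_cj {U E : Subgroup G} {g : G} (hg : g ∈ normalizer (U : Set G)) (h : MaxEA 2 U E) :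
    MaxEA 2 U (cj g E) := ⟨cj_eq_of_mem hg ▸ map_mono h.1, EA.cj' h.2.1 g,
  fun B h1 h2 => (h.2.2 B h1 h2).trans (card_cj g E).ge⟩

theorem ea_sup_zp {E : Subgroup G} (hE : EA 2 E) {v : G} (hv : v * v = 1)
    (hc : ∀ e ∈ E, e * v = v * e) : EA 2 (E ⊔ zpowers v) := EA.sup' hE (ea_zpowers hv) (by
  rintro a ha _ ⟨i, rfl⟩
  exact (Commute.zpow_right (hc a ha) i).eq)

theorem maxEA_mem {U E : Subgroup G} (hE : MaxEA 2 U E) {v : G} (hU : v ∈ U) (hv : v * v = 1)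
    (hc : ∀ e ∈ E, e * v = v * e) : v ∈ E :=
  (eq_of_le_of_card_ge le_sup_left (hE.2.2 _ (sup_le hE.1 (zpowers_le.2 hU))
    (ea_sup_zp hE.2.1 hv hc))).ge (mem_sup_right (mem_zpowers v))

theorem maxEA_sub {U E E0 : Subgroup G} (hE : MaxEA 2 U E) (h : I2 E0 E) {v : G} (hU : v ∈ U)
    (hv : v * v = 1) (hc : ∀ e ∈ E0, e * v = v * e) (hn : v ∉ E) : MaxEA 2 U (E0 ⊔ zpowers v) := by
  refine ⟨sup_le (h.1.trans hE.1) (zpowers_le.2 hU), ea_sup_zp (EA.mono' hE.2.1 h.1) hv hc,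
    fun B h1 h2 => (hE.2.2 B h1 h2).trans (h.card.trans (two_mul_card_le ?_))⟩
  exact left_lt_sup.2 fun e => hn (h.1 (e (mem_zpowers v)))

/-- members of `T` and of `U` agree when the Thompson subgroups do -/
theorem maxEA_of_eq {U T E A : Subgroup G} (h : thJ 2 T = thJ 2 U) (hE : MaxEA 2 U E) (hA : A ≤ T)
    (hA' : EA 2 A) (hc : Nat.card E ≤ Nat.card A) : MaxEA 2 T A ∧ MaxEA 2 U A := by
  obtain ⟨E1, h1⟩ := exists_maxEA T
  have h2 : MaxEA 2 T A := ⟨hA, hA', fun B b1 b2 => (h1.2.2 B b1 b2).trans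
    ((hE.2.2 E1 ((le_thJ' h1).trans (h.le.trans (thJ_le U))) h1.2.1).trans hc)⟩
  exact ⟨h2, (le_thJ' h2).trans (h.le.trans (thJ_le U)), hA',
    fun B b1 b2 => (hE.2.2 B b1 b2).trans hc⟩

namespace Blk

variable {U B D : Subgroup G} {x w t y : G} (K : Blk B x w t y D)
include K

theorem k_cd {c d : G} (hc : c = 1 ∨ c = w) (hd : d ∈ D) : Commute x (c * d) ∧ Commute t (c * d) :=
  ⟨Commute.mul_right ((K.b_cZ hc).2.2 x K.xB).symm (K.dx d hd).symm,
    Commute.mul_right ((K.b_cZ hc).2.2 t K.tB).symm (K.dt d hd).symm⟩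

theorem k_dec {s : G} (hs : s ∈ B) (ss : s * s = 1) : ∃ d ∈ D, ∃ c, (c = 1 ∨ c = w) ∧
    (s = c * d ∨ s = x * (c * d) ∨ s = t * (c * d)) := by
  obtain ⟨d, hd, c, hc, h⟩ := K.b_dec hs
  refine ⟨d, hd, c, hc, ?_⟩
  rcases h with h | h | h | h
  exacts [Or.inl h, Or.inr (Or.inl h), Or.inr (Or.inr h), absurd (by
    have cZ := K.b_cZ hc
    have h5 : Commute (x * t) (c * d) := (K.k_cd hc hd).1.mul_left (K.k_cd hc hd).2
    rw [h, ← mul_assoc x t, ← pow_two, h5.mul_pow, (show Commute c d from cZ.2.2 d (K.DB hd)).mul_pow,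
      cZ.2.1, one_mul, show (x * t) ^ 2 = w by rw [K.b_w, pow_two]; group] at ss
    rw [eq_inv_of_mul_eq_one_left ss]
    exact inv_mem (pow_mem hd 2)) K.b_wD]

theorem k_comm {s : G} (hs : s ∈ B) (ss : s * s = 1) : Commute x s ∨ Commute t s := by
  obtain ⟨d, hd, c, hc, h⟩ := K.k_dec hs ss
  rcases h with rfl | rfl | rfl
  exacts [Or.inl (K.k_cd hc hd).1, Or.inl ((Commute.refl x).mul_right (K.k_cd hc hd).1),
    Or.inr ((Commute.refl t).mul_right (K.k_cd hc hd).2)]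

theorem k_cx {a : G} (ha : a ∈ B) : a * x * a⁻¹ = x ∨ a * x * a⁻¹ = x * w := by
  have h := K.b_xc ha
  rw [K.b_xi] at h
  refine h.imp (fun h => ?_) fun h => ?_
  · calc _ = x⁻¹ * (x * a * x * a⁻¹) := by group
      _ = x := by rw [h, K.b_xi, mul_one]
  · calc _ = x⁻¹ * (x * a * x * a⁻¹) := by group
      _ = x * w := by rw [h, K.b_xi]

theorem k_xw : x ≠ w := fun h => K.b_ntx (by rw [h, K.b_wt])

theorem k_yxw : y * (x * w) * y⁻¹ = w := by
  calc _ = (y * x * y⁻¹) * (y * w * y⁻¹) := by group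
    _ = w := by rw [K.yx, K.yw, mul_assoc, K.wx, ← mul_assoc, K.xx, one_mul]

theorem not_both {E : Subgroup G} (hE : EA 2 E) (hx : x ∈ E) (ht : t ∈ E) : False :=
  K.b_ntx (hE.1 t ht x hx)

variable (hJ : thJ 2 U ≤ B) (hB : B ≤ U)
include hJ hB

theorem mem_w {E : Subgroup G} (hE : MaxEA 2 U E) : w ∈ E :=
  maxEA_mem hE (hB K.b_wZ.1) K.ww fun e he => (K.b_wZ.2.2 e (hJ (le_thJ' hE he))).symm

theorem mem_xt {E : Subgroup G} (hE : MaxEA 2 U E) : x ∈ E ∨ t ∈ E := by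
  by_contra hc
  push Not at hc
  obtain ⟨a, ha, ha'⟩ : ∃ a ∈ E, ¬ Commute x a := by
    by_contra h
    push Not at h
    exact hc.1 (maxEA_mem hE (hB K.xB) K.xx fun e he => (h e he).symm)
  obtain ⟨b, hb, hb'⟩ : ∃ a ∈ E, ¬ Commute t a := by
    by_contra h
    push Not at h
    exact hc.2 (maxEA_mem hE (hB K.tB) K.tt fun e he => (h e he).symm)
  have c := fun s hs => K.k_comm (hJ (le_thJ' hE hs)) (EA.sq' hE.2.1 (x := s) hs)
  rcases c _ (mul_mem ha hb) with h | h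
  · exact ha' (by simpa using h.mul_right ((c b hb).resolve_right hb').inv_right)
  · exact hb' (by simpa using ((c a ha).resolve_left ha').inv_right.mul_right h)

theorem swap {E : Subgroup G} (hE : MaxEA 2 U E) (ht : t ∈ E) :
    ∃ E', MaxEA 2 U E' ∧ x ∈ E' ∧ E ≤ E' ⊔ zpowers t := by
  have i : I2 (E ⊓ centralizer {x}) E := i2_cent K.ww fun e he =>
    ⟨fix_of_mem hE.2.1 he (K.mem_w hJ hB hE), K.k_cx (hJ (le_thJ' hE he))⟩
  refine ⟨_, maxEA_sub hE i (hB K.xB) K.xx (fun e he => mem_centralizer_singleton_iff.1 he.2)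
    fun h => K.not_both hE.2.1 h ht, mem_sup_right (mem_zpowers x), fun e he => ?_⟩
  by_cases h : e ∈ E ⊓ centralizer {x}
  · exact mem_sup_left (mem_sup_left h)
  · have := i.2 e he t ht h fun h => K.b_ntx (mem_centralizer_singleton_iff.1 h.2)
    simpa using mul_mem (mem_sup_left (T := zpowers t) (mem_sup_left (T := zpowers x) this))
      (mem_sup_right (inv_mem (mem_zpowers t)))

theorem J_le : thJ 2 U ≤ zpowers t ⊔ QJ U x := thJ_le' fun E hE => by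
  rcases K.mem_xt hJ hB hE with h | h
  · exact (le_QJ hE h).trans le_sup_right
  · obtain ⟨E', h1, h2, h3⟩ := K.swap hJ hB hE h
    exact h3.trans (sup_le ((le_QJ h1 h2).trans le_sup_right) le_sup_left)

theorem mem_dec {E : Subgroup G} (hE : MaxEA 2 U E) (hx : x ∈ E) {e : G} (he : e ∈ E) :
    ∃ d ∈ D, ∃ c, (c = 1 ∨ c = w) ∧ (e = c * d ∨ e = x * (c * d)) := by
  obtain ⟨d, hd, c, hc, h⟩ := K.k_dec (hJ (le_thJ' hE he)) (EA.sq' hE.2.1 he)
  refine ⟨d, hd, c, hc, ?_⟩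
  rcases h with h | h | h
  exacts [Or.inl h, Or.inr h, absurd (by
    simpa [h, mul_assoc] using (Commute.mul_right (hE.2.1.1 x hx e he)
      (K.k_cd hc hd).1.inv_right).eq.symm) K.b_ntx]

theorem y_nm {E : Subgroup G} (hE : MaxEA 2 U E) (hx : x ∈ E) : y ∈ normalizer (E : Set G) :=
  nm_of fun e he => by
  have hw := K.mem_w hJ hB hE
  obtain ⟨d, hd, c, hc, h⟩ := K.mem_dec hJ hB hE hx he
  have cE : c ∈ E ∧ y * c * y⁻¹ ∈ E := by
    rcases hc with rfl | rfl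
    exacts [⟨one_mem _, by simp⟩, ⟨hw, K.yw ▸ hx⟩]
  have h1 : c * d ∈ E → y * (c * d) * y⁻¹ ∈ E := fun h => by
    rw [show y * (c * d) * y⁻¹ = (y * c * y⁻¹) * (y * d * y⁻¹) by group, cm_iff.2 (K.dy d hd).symm]
    exact mul_mem cE.2 (by simpa using mul_mem (inv_mem cE.1) h)
  rcases h with rfl | rfl
  · exact h1 he
  · rw [show y * (x * (c * d)) * y⁻¹ = (y * x * y⁻¹) * (y * (c * d) * y⁻¹) by group, K.yx]
    exact mul_mem (mul_mem hx hw) (h1 (by simpa using mul_mem (inv_mem hx) he))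

theorem y_QJ : y ∈ normalizer ((QJ U x : Subgroup G) : Set G) := nm_QJ fun E h1 h2 => by
  rw [cj_eq_of_mem (K.y_nm hJ hB h1 h2)]; exact le_QJ h1 h2

theorem B_QJ : B ≤ normalizer ((QJ U x : Subgroup G) : Set G) := fun a ha => nm_QJ fun E h1 h2 =>
  le_QJ (maxEA_cj (le_normalizer (hB ha)) h1) (mem_cj.2 (by
    have := K.k_cx (inv_mem ha)
    rw [inv_inv] at this
    rcases this with h | h <;> rw [h]
    exacts [h2, mul_mem h2 (K.mem_w hJ hB h1)]))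

variable (hE : ∃ E, MaxEA 2 U E ∧ t ∈ E)
include hE

theorem xw_VJ : x ∈ omZ 2 (QJ U x) ∧ w ∈ omZ 2 (QJ U x) := by
  obtain ⟨E, h1, h2⟩ := hE
  obtain ⟨E', h3, h4, -⟩ := K.swap hJ hB h1 h2
  refine ⟨⟨le_QJ h3 h4 h4, by rw [pow_two, K.xx], fun a ha => ?_⟩, le_QJ h3 h4 (K.mem_w hJ hB h3),
    K.b_wZ.2.1, fun a ha => K.b_wZ.2.2 a (hJ (QJ_le_thJ U x ha))⟩
  exact (mem_centralizer_singleton_iff.1 (QJ_le (K := centralizer {x}) (fun E h1 h2 e he =>
    mem_centralizer_singleton_iff.2 (h1.2.1.1 e he x h2)) ha)).symm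

theorem VJ_dec {v : G} (hv : v ∈ omZ 2 (QJ U x)) :
    ∃ d ∈ D, ∃ c, (c = 1 ∨ c = w) ∧ (v = c * d ∨ v = x * (c * d)) := by
  obtain ⟨E, h1, h2⟩ := hE
  obtain ⟨E', h3, h4, -⟩ := K.swap hJ hB h1 h2
  exact K.mem_dec hJ hB h3 h4 (maxEA_mem h3 (thJ_le U (QJ_le_thJ U x hv.1))
    (EA.sq' (ea_omZ _) hv) fun e he => (hv.2.2 e (le_QJ h3 h4 he)).symm)

theorem t_VJ {v : G} (hv : v ∈ omZ 2 (QJ U x)) : t * v * t⁻¹ = v ∨ t * v * t⁻¹ = w * v := by
  obtain ⟨d, hd, c, hc, h⟩ := K.VJ_dec hJ hB hE hv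
  have h1 := cm_iff.2 (K.k_cd hc hd).2.eq
  rcases h with rfl | rfl
  · exact Or.inl h1
  · right
    rw [show t * (x * (c * d)) * t⁻¹ = (t * x * t⁻¹) * (t * (c * d) * t⁻¹) by group, h1, K.b_ti, K.txt,
      ← K.wx, mul_assoc]

theorem J_VJ {j v : G} (hj : j ∈ thJ 2 U) (hv : v ∈ omZ 2 (QJ U x)) :
    j * v * j⁻¹ = v ∨ j * v * j⁻¹ = w * v := by
  obtain ⟨a, ha, q, hq, rfl⟩ := mem_sup_nm (zpowers_le.2 (K.B_QJ hJ hB K.tB)) (K.J_le hJ hB hj)
  rw [show a * q * v * (a * q)⁻¹ = a * (q * v * q⁻¹) * a⁻¹ by group, cm_iff.2 (hv.2.2 q hq).symm]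
  rcases mem_zpowers_two K.tt ha with rfl | rfl
  exacts [Or.inl (by simp), K.t_VJ hJ hB hE hv]

theorem nA_QJ : ¬ A2 (QJ U x) := fun h => K.k_xw
  (K.yw.symm.trans (h y (K.y_QJ hJ hB) K.yo w (K.xw_VJ hJ hB hE).2.1))

variable (hU : IsPGroup 2 U) (hP : ∀ Y T : Subgroup G, IsPGroup 2 Y → ¬ A2 Y → IsPGroup 2 T →
    T ≤ normalizer (Y : Set G) → thJ 2 U ≤ T → thJ 2 T = thJ 2 U)
include hU hP

theorem k0 {n : G} (hn : n ∈ normalizer ((QJ U x : Subgroup G) : Set G))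
    (h : t * (n * w * n⁻¹) * t⁻¹ = n * w * n⁻¹) : n * w * n⁻¹ = w := by
  obtain ⟨xV, wV⟩ := K.xw_VJ hJ hB hE
  set V := omZ 2 (QJ U x) with hV
  have tN := K.B_QJ hJ hB K.tB
  set q := n * w * n⁻¹ with hq
  set s := n * t * n⁻¹ with hs
  have sN : s ∈ normalizer ((QJ U x : Subgroup G) : Set G) := mul_mem (mul_mem hn tN) (inv_mem hn)
  have qV : q ∈ V := nm_cj (nm_omZ hn) wV
  have ss : s * s = 1 := by
    calc _ = n * (t * t) * n⁻¹ := by rw [hs]; group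
      _ = 1 := by rw [K.tt]; group
  have r4 : ∀ v ∈ V, (t * s) ^ 4 * v = v * (t * s) ^ 4 := fun v hv => by
    let _ : CommGroup V := { (inferInstance : Group V) with
      mul_comm := fun a b => Subtype.ext ((ea_omZ _).1 _ a.2 _ b.2) }
    have := tv4 (W := V) (fun v => Subtype.ext (EA.sq' (ea_omZ _) v.2))
      (V.normalizerMonoidHom ⟨t, nm_omZ tN⟩) (V.normalizerMonoidHom ⟨s, nm_omZ sN⟩)
      (p := ⟨w, wV⟩) (q := ⟨q, qV⟩)
      (fun v => (K.t_VJ hJ hB hE v.2).imp (fun h => Subtype.ext h) fun h => Subtype.ext h)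
      (fun v => (K.t_VJ hJ hB hE (nm_cj' (nm_omZ hn) v.2)).imp (fun h => Subtype.ext (by
        change s * v * s⁻¹ = v
        calc _ = n * (t * (n⁻¹ * v * n) * t⁻¹) * n⁻¹ := by rw [hs]; group
          _ = _ := by rw [h]; group)) fun h => Subtype.ext (by
        change s * v * s⁻¹ = q * v
        calc _ = n * (t * (n⁻¹ * v * n) * t⁻¹) * n⁻¹ := by rw [hs]; group
          _ = _ := by rw [h, hq]; group))
      (Subtype.ext (cm_iff.2 K.b_wt.symm)) (Subtype.ext h) (Subtype.ext (by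
        change s * q * s⁻¹ = q
        calc _ = n * (t * w * t⁻¹) * n⁻¹ := by rw [hs, hq]; group
          _ = _ := by rw [cm_iff.2 K.b_wt.symm])) ⟨v, hv⟩
    rw [← map_mul, ← map_pow] at this
    exact cm_iff.1 (congrArg Subtype.val this)
  obtain ⟨a, b, ha, hb, ⟨k, hk⟩, bo, e⟩ := exists_decomp 2 (t * s)
  have inv : ∀ z ∈ zpowers (t * s), t * z * t⁻¹ = z⁻¹ := by
    rintro _ ⟨i, rfl⟩
    have : t * (t * s) * t⁻¹ = (t * s)⁻¹ := by
      rw [← mul_assoc, K.tt, one_mul, mul_inv_rev, inv_eq_of_mul_eq_one_right ss]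
    rw [← conj_zpow, this, inv_zpow]
  obtain ⟨m, hm⟩ : Odd (orderOf b) := Nat.not_even_iff_odd.1 fun e => bo (even_iff_two_dvd.1 e)
  set c := b ^ (m + 1) with hc
  have cc : c * c = b := by
    rw [hc, ← pow_add, show m + 1 + (m + 1) = orderOf b + 1 by omega, pow_succ, pow_orderOf_eq_one, one_mul]
  have cz : c ∈ zpowers (t * s) := pow_mem hb _
  have zN : zpowers (t * s) ≤ normalizer ((QJ U x : Subgroup G) : Set G) := zpowers_le.2 (mul_mem tN sN)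
  have bq : b * q = q * b := by
    refine comm_of_sq bo (comm_of_sq (bo.of_zpowers (mul_mem (mem_zpowers b) (mem_zpowers b))) ?_)
    obtain ⟨i, rfl⟩ := hb
    have := (show Commute ((t * s) ^ 4) q from r4 q qV).zpow_left i
    rw [← zpow_natCast, ← zpow_mul, mul_comm, zpow_mul, zpow_natCast] at this
    simpa only [pow_succ, pow_zero, one_mul, mul_assoc] using this.eq
  have cq : c * q * c⁻¹ = q := cm_iff.2 (Commute.pow_left bq _)
  have ac : a * c = c * a := by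
    obtain ⟨i, rfl⟩ := ha
    obtain ⟨j, hj⟩ := cz
    rw [← hj]
    exact ((Commute.refl _).zpow_zpow i j).eq
  have e1 : c * n * t * (c * n)⁻¹ = t * a := by
    have h1 : s = t * (a * (c * c)) := by rw [cc, ← e, ← mul_assoc, K.tt, one_mul]
    have h2 : c * t = t * c⁻¹ := by
      rw [← inv c cz, K.b_ti, ← mul_assoc, ← mul_assoc, K.tt, one_mul]
    calc _ = c * s * c⁻¹ := by rw [hs]; group
      _ = (c * t) * (a * c) := by rw [h1]; group
      _ = t * a := by rw [h2, ac]; group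
  have nN := mul_mem (zN cz) hn
  have pQ : IsPGroup 2 (QJ U x) := hU.to_le ((QJ_le_thJ U x).trans (thJ_le U))
  have TN : zpowers t ⊔ zpowers a ≤ normalizer ((QJ U x : Subgroup G) : Set G) :=
    sup_le (zpowers_le.2 tN) (zpowers_le.2 (zN ha))
  have pT : IsPGroup 2 ((zpowers t ⊔ zpowers a) ⊔ QJ U x : Subgroup G) :=
    ((EA.pg (ea_zpowers K.tt)).to_sup_of_normal_right' (isPGroup_zp hk) (zpowers_le.2 (nm_of
      fun z hz => by rw [inv z (zpowers_le.2 ha hz)]; exact inv_mem hz))).to_sup_of_normal_right' pQ TN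
  have eJ := hP _ _ pQ (K.nA_QJ hJ hB hE) pT (sup_le TN le_normalizer)
    ((K.J_le hJ hB).trans (sup_le_sup_right le_sup_left _))
  obtain ⟨E, h1, h2⟩ := hE
  have h3 := (maxEA_of_eq (A := cj (c * n) E) eJ h1 (by
    refine (map_mono ((le_thJ' h1).trans (K.J_le hJ hB))).trans (map_le_iff_le_comap.2
      (sup_le (zpowers_le.2 ?_) fun z hz => mem_sup_right (S := zpowers t ⊔ zpowers a) (nm_cj nN hz)))
    change c * n * t * (c * n)⁻¹ ∈ (zpowers t ⊔ zpowers a) ⊔ QJ U x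
    rw [e1]
    exact mem_sup_left (mul_mem (mem_sup_left (mem_zpowers t)) (mem_sup_right (mem_zpowers a))))
    (EA.cj' h1.2.1 _) (card_cj _ _).ge).2
  have h4 := K.J_VJ hJ hB ⟨E, h1, h2⟩ (le_thJ' h3 ⟨t, h2, rfl⟩) (nm_cj (nm_omZ nN) xV)
  have h5 : (c * n * t * (c * n)⁻¹) * (c * n * x * (c * n)⁻¹) * (c * n * t * (c * n)⁻¹)⁻¹ =
      q * (c * n * x * (c * n)⁻¹) := by
    calc _ = c * n * (t * x * t⁻¹) * (c * n)⁻¹ := by group
      _ = (c * q * c⁻¹) * (c * n * x * (c * n)⁻¹) := by rw [K.b_ti, K.txt, ← K.wx, hq]; group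
      _ = _ := by rw [cq]
  rcases h4 with h4 | h4
  · exact absurd (by simpa [hq] using h5.symm.trans h4) K.w1
  · exact mul_right_cancel (h5.symm.trans h4)

theorem k1w {n : G} (hn : n ∈ normalizer ((QJ U x : Subgroup G) : Set G)) :
    n * w * n⁻¹ ∈ ({x, w, x * w} : Set G) := by
  have yN := K.y_QJ hJ hB
  obtain ⟨d, hd, c, hc, h⟩ := K.VJ_dec hJ hB hE (nm_cj (nm_omZ hn) (K.xw_VJ hJ hB hE).2)
  have hw := cm_iff.2 (K.k_cd (Or.inr rfl) hd).2.eq
  have yd := cm_iff.2 (K.dy d hd).symm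
  rcases h with h | h
  · simp [K.k0 hJ hB hE hU hP hn (by rw [h]; exact cm_iff.2 (K.k_cd hc hd).2.eq)]
  rcases hc with rfl | rfl
  · have h1 : y⁻¹ * n * w * (y⁻¹ * n)⁻¹ = w * d := by
      calc _ = y⁻¹ * (n * w * n⁻¹) * y := by group
        _ = _ := by rw [h, ← K.yw]; conv_lhs => rw [← yd]
                    group
    have h2 := K.k0 hJ hB hE hU hP (mul_mem (inv_mem yN) hn) (by rw [h1, hw])
    left
    calc _ = y * (y⁻¹ * n * w * (y⁻¹ * n)⁻¹) * y⁻¹ := by group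
      _ = _ := by rw [h2, K.yw]
  · have h1 : y * n * c * (y * n)⁻¹ = c * d := by
      calc _ = y * (n * c * n⁻¹) * y⁻¹ := by group
        _ = (y * (x * c) * y⁻¹) * (y * d * y⁻¹) := by rw [h]; group
        _ = _ := by rw [K.k_yxw, yd]
    have h2 := K.k0 hJ hB hE hU hP (mul_mem yN hn) (by rw [h1, hw])
    right; right
    have h3 := h2.trans K.k_yxw.symm
    change n * c * n⁻¹ = x * c
    calc _ = y⁻¹ * (y * n * c * (y * n)⁻¹) * y := by group
      _ = _ := by rw [h3]; group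

theorem k1 {n : G} (hn : n ∈ normalizer ((QJ U x : Subgroup G) : Set G)) :
    ∀ v ∈ ({x, w, x * w} : Set G), n * v * n⁻¹ ∈ ({x, w, x * w} : Set G) := by
  have yN := K.y_QJ hJ hB
  rintro v (rfl | rfl | rfl)
  · have := K.k1w hJ hB hE hU hP (mul_mem hn yN)
    rwa [show n * y * w * (n * y)⁻¹ = n * (y * w * y⁻¹) * n⁻¹ by group, K.yw] at this
  · exact K.k1w hJ hB hE hU hP hn
  · have := K.k1w hJ hB hE hU hP (mul_mem (mul_mem hn yN) yN)
    rwa [show n * y * y * w * (n * y * y)⁻¹ = n * (y * (y * w * y⁻¹) * y⁻¹) * n⁻¹ by group, K.yw,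
      K.yx] at this

end Blk

end Cfsg.Agent.AC
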